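import Cfsg.Agent.J4Rep94.C12.Data

/-!
# Certificate data
-/

set_option autoImplicit false
set_option maxRecDepth 100000

namespace Cfsg.Agent.J4Rep94.C12

open Cfsg.Agent.CosetEnum

def fv0 : ℕ := 0x79000010007600161000020003d000060012a00001000740015f000020006e000050012c00001000720015d0000200086000060010a00001000700015b00002000850000500108000010006e0015900002000840000700106000010006c0015700002000830000500104000010006a001550000200082000060010200001000680015300002000810000500100000010006600151000020008000006000fe00001000640014f000020007f00005000fc00001000620014d000020007e00007000fa00001000600014b000020007d00005000f8000010005e00149000020007c00006000f6000010005c00146000020007b000050013500001000f400144000020008f000060011f000010011c00143000020009000006001210000100058001410000200091000050012300001000560013f0000200092000070012500001000540013d0000200093000050012700001000520013b000020009400006001290000100050001380000200095000050004e0004c0004a0004800046000440004200040001320010f00111001130011500117001190011b001310008400136000df000e10001500128001260012400122001200011e000f2000f0000ee000ec000ea000e8000e6000e4000e20000f00071000040008200001000dc0000100041000020011c000010005a000010002d000020003e000010010c000010001f000020008400082000800007e0007c0012e0000d0000f00011000130000a0011a00118001160011400112001100010e0010c0003c0003a00038000360003400032000300002e0002c0002a00028000260002400022000200001e0001c0001a0001800016000140001d0000a000030007a000010000a0000100005000020012b00078000020010a0010800106001040010200100000fe000fc000fa000f8000f6000f4000f2000f0000ee000ec000ea000e8000e6000e4000e2000e0000de000dc000800007e0007c0007a00008000060000400002000000002100000000010007800001000da000d8000d6000d4000d2000d0000ce000cc000ca000c8000c6000c4000c2000c0000be000bc000ba000b8000b6000b4000b2000b0000ae000ac000aa000a8000a6000a4000a2000a00009e0009c0009a00098000960009400092000900008e0008c0008a00088000860008400082000800007e0007c0007a0000800006000040000200000000360000000000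
theorem fok0 : sys.checkFacts 149 29 fv0 = true := by decide +kernel


end Cfsg.Agent.J4Rep94.C12
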